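import Groth.Agent.ProjDimLib.Basic
import Groth.Agent.GradedHilbLib.LinearSections
import Groth.Agent.SegreLib.Dim
import Groth.Agent.CommAlgDim.Integral

/-! # The projective dimension theorem, by the join of two cones and linear sections -/

set_option autoImplicit false
universe u

open scoped TensorProduct
open MvPolynomial

noncomputable section

namespace ProjDimLib

variable {k : Type u} [Field k]

/-- The dimension of a tensor product of finitely generated algebras over a field. -/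
theorem ringKrullDim_tensor (R S : Type u) [CommRing R] [CommRing S] [Algebra k R] [Algebra k S]
    [Algebra.FiniteType k R] [Algebra.FiniteType k S] [Nontrivial R] [Nontrivial S] {a b : ℕ}
    (ha : ringKrullDim R = (a : WithBot ℕ∞)) (hb : ringKrullDim S = (b : WithBot ℕ∞)) :
    ringKrullDim (R ⊗[k] S) = ((a + b : ℕ) : WithBot ℕ∞) := by
  obtain ⟨r, g, hg, hgf⟩ := exists_finite_inj_algHom_of_fg k R
  obtain ⟨s, h, hh, hhf⟩ := exists_finite_inj_algHom_of_fg k S
  have hdimP : ∀ m : ℕ, ringKrullDim (MvPolynomial (Fin m) k) = (m : WithBot ℕ∞) := fun m => by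
    rw [MvPolynomial.ringKrullDim_of_isNoetherianRing, ringKrullDim_eq_zero_of_field, zero_add]; simp
  have hr : r = a := by
    letI := g.toRingHom.toAlgebra
    haveI : Module.Finite (MvPolynomial (Fin r) k) R := hgf
    have h1 := CommAlgDim.ringKrullDim_eq_of_integral (MvPolynomial (Fin r) k) R hg
    rw [ha, hdimP] at h1
    exact_mod_cast h1.symm
  have hs : s = b := by
    letI := h.toRingHom.toAlgebra
    haveI : Module.Finite (MvPolynomial (Fin s) k) S := hhf
    have h1 := CommAlgDim.ringKrullDim_eq_of_integral (MvPolynomial (Fin s) k) S hh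
    rw [hb, hdimP] at h1
    exact_mod_cast h1.symm
  have hinj := SegreLib.theta_injective (k := k) (g ∘ X) (h ∘ X)
    (by rw [← MvPolynomial.aeval_unique g]; exact hg) (by rw [← MvPolynomial.aeval_unique h]; exact hh)
  have hfin := SegreLib.theta_finite (k := k) (g ∘ X) (h ∘ X)
    (by rw [← MvPolynomial.aeval_unique g]; exact hgf) (by rw [← MvPolynomial.aeval_unique h]; exact hhf)
  letI := (SegreLib.theta (k := k) (g ∘ X) (h ∘ X)).toRingHom.toAlgebra
  haveI : Module.Finite (MvPolynomial (Fin r ⊕ Fin s) k) (R ⊗[k] S) := hfin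
  rw [CommAlgDim.ringKrullDim_eq_of_integral (MvPolynomial (Fin r ⊕ Fin s) k) (R ⊗[k] S) hinj,
    MvPolynomial.ringKrullDim_of_isNoetherianRing, ringKrullDim_eq_zero_of_field, zero_add, ← hr, ← hs]
  simp

lemma map_isHomogeneous {m N : ℕ}
    (φ : MvPolynomial (Fin (m + 1)) k →+* MvPolynomial (Fin (N + 1)) k)
    (hφ : ∀ d, ∀ a ∈ CohB1.polyGrading m k d, φ a ∈ CohB1.polyGrading N k d)
    {I : Ideal (MvPolynomial (Fin (m + 1)) k)} (hI : I.IsHomogeneous (CohB1.polyGrading m k)) :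
    (I.map φ).IsHomogeneous (CohB1.polyGrading N k) := by
  have h : I.map φ = Ideal.span {b | ∃ d, ∃ a ∈ CohB1.polyGrading m k d, a ∈ I ∧ φ a = b} := by
    refine le_antisymm (Ideal.map_le_iff_le_comap.2 fun a ha => ?_)
      (Ideal.span_le.2 ?_)
    · classical
      rw [Ideal.mem_comap, ← DirectSum.sum_support_decompose (CohB1.polyGrading m k) a, map_sum]
      exact Ideal.sum_mem _ fun i _ => Ideal.subset_span ⟨i, _, SetLike.coe_mem _, hI i ha, rfl⟩
    · rintro _ ⟨d, a, -, ha, rfl⟩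
      exact Ideal.mem_map_of_mem φ ha
  rw [h]
  exact Ideal.homogeneous_span _ _ (by rintro _ ⟨d, a, had, -, rfl⟩; exact ⟨d, hφ d a had⟩)

section Diag

variable {n N : ℕ} (e : Fin (n + 1) ⊕ Fin (n + 1) ≃ Fin (N + 1))

/-- The first coordinates. -/
def inL : MvPolynomial (Fin (n + 1)) k →ₐ[k] MvPolynomial (Fin (N + 1)) k := rename (e ∘ Sum.inl)

/-- The second coordinates. -/
def inR : MvPolynomial (Fin (n + 1)) k →ₐ[k] MvPolynomial (Fin (N + 1)) k := rename (e ∘ Sum.inr)

/-- The cone of the join. -/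
def join (p q : Ideal (MvPolynomial (Fin (n + 1)) k)) : Ideal (MvPolynomial (Fin (N + 1)) k) :=
  p.map (inL e).toRingHom ⊔ q.map (inR e).toRingHom

lemma inL_mem {d : ℕ} {a : MvPolynomial (Fin (n + 1)) k} (ha : a ∈ CohB1.polyGrading n k d) :
    inL e a ∈ CohB1.polyGrading N k d :=
  (mem_homogeneousSubmodule _ _).2 (((mem_homogeneousSubmodule _ _).1 ha).rename_isHomogeneous)

lemma inR_mem {d : ℕ} {a : MvPolynomial (Fin (n + 1)) k} (ha : a ∈ CohB1.polyGrading n k d) :
    inR e a ∈ CohB1.polyGrading N k d :=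
  (mem_homogeneousSubmodule _ _).2 (((mem_homogeneousSubmodule _ _).1 ha).rename_isHomogeneous)

lemma join_isHomogeneous {p q : Ideal (MvPolynomial (Fin (n + 1)) k)}
    (hp : p.IsHomogeneous (CohB1.polyGrading n k)) (hq : q.IsHomogeneous (CohB1.polyGrading n k)) :
    (join e p q).IsHomogeneous (CohB1.polyGrading N k) :=
  (map_isHomogeneous _ (fun _ _ => inL_mem e) hp).sup (map_isHomogeneous _ (fun _ _ => inR_mem e) hq)

/-- The map to the tensor product of the two coordinate rings. -/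
def toTensor (p q : Ideal (MvPolynomial (Fin (n + 1)) k)) : MvPolynomial (Fin (N + 1)) k →ₐ[k]
    ((MvPolynomial (Fin (n + 1)) k ⧸ p) ⊗[k] (MvPolynomial (Fin (n + 1)) k ⧸ q)) :=
  aeval fun v => Sum.elim (fun i => Ideal.Quotient.mk p (X i) ⊗ₜ[k] (1 : MvPolynomial (Fin (n + 1)) k ⧸ q))
    (fun i => (1 : MvPolynomial (Fin (n + 1)) k ⧸ p) ⊗ₜ[k] Ideal.Quotient.mk q (X i)) (e.symm v)

lemma toTensor_inL (p q : Ideal (MvPolynomial (Fin (n + 1)) k)) (a : MvPolynomial (Fin (n + 1)) k) :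
    toTensor e p q (inL e a) = Ideal.Quotient.mk p a ⊗ₜ 1 :=
  AlgHom.congr_fun (φ₁ := (toTensor e p q).comp (inL e))
    (φ₂ := (Algebra.TensorProduct.includeLeft : _ →ₐ[k] (MvPolynomial (Fin (n + 1)) k ⧸ p) ⊗[k]
      (MvPolynomial (Fin (n + 1)) k ⧸ q)).comp (Ideal.Quotient.mkₐ k p))
    (MvPolynomial.algHom_ext fun i => by simp [toTensor, inL]) a

lemma toTensor_inR (p q : Ideal (MvPolynomial (Fin (n + 1)) k)) (a : MvPolynomial (Fin (n + 1)) k) :
    toTensor e p q (inR e a) = 1 ⊗ₜ Ideal.Quotient.mk q a :=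
  AlgHom.congr_fun (φ₁ := (toTensor e p q).comp (inR e))
    (φ₂ := (Algebra.TensorProduct.includeRight : _ →ₐ[k] (MvPolynomial (Fin (n + 1)) k ⧸ p) ⊗[k]
      (MvPolynomial (Fin (n + 1)) k ⧸ q)).comp (Ideal.Quotient.mkₐ k q))
    (MvPolynomial.algHom_ext fun i => by simp [toTensor, inR]) a

/-- The join of two cones has at least the sum of their dimensions. -/
lemma exists_prime_join {p q : Ideal (MvPolynomial (Fin (n + 1)) k)} [p.IsPrime] [q.IsPrime]
    (hp : p.IsHomogeneous (CohB1.polyGrading n k)) (hq : q.IsHomogeneous (CohB1.polyGrading n k)) {r s : ℕ}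
    (hr : (GradedHilbLib.hilb p).natDegree = r) (hs : (GradedHilbLib.hilb q).natDegree = s)
    (hp0 : GradedHilbLib.hilb p ≠ 0) (hq0 : GradedHilbLib.hilb q ≠ 0) :
    ∃ P : Ideal (MvPolynomial (Fin (N + 1)) k), P.IsPrime ∧ P.IsHomogeneous (CohB1.polyGrading N k) ∧
      join e p q ≤ P ∧ GradedHilbLib.hilb P ≠ 0 ∧ r + s + 1 ≤ (GradedHilbLib.hilb P).natDegree := by
  have hA : ringKrullDim (MvPolynomial (Fin (n + 1)) k ⧸ p) = ((r + 1 : ℕ) : WithBot ℕ∞) := by
    rw [(GradedHilbLib.ringKrullDim_quotient hp (Ideal.IsPrime.ne_top ‹_›)).2 hp0, hr]; push_cast; rfl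
  have hB : ringKrullDim (MvPolynomial (Fin (n + 1)) k ⧸ q) = ((s + 1 : ℕ) : WithBot ℕ∞) := by
    rw [(GradedHilbLib.ringKrullDim_quotient hq (Ideal.IsPrime.ne_top ‹_›)).2 hq0, hs]; push_cast; rfl
  have hT := ringKrullDim_tensor (k := k) _ _ hA hB
  have hsurj : Function.Surjective (toTensor e p q) := by
    intro z
    induction z using TensorProduct.induction_on with
    | zero => exact ⟨0, map_zero _⟩
    | add a b ha hb =>
      obtain ⟨a', rfl⟩ := ha
      obtain ⟨b', rfl⟩ := hb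
      exact ⟨a' + b', map_add _ _ _⟩
    | tmul a b =>
      obtain ⟨a, rfl⟩ := Ideal.Quotient.mk_surjective a
      obtain ⟨b, rfl⟩ := Ideal.Quotient.mk_surjective b
      exact ⟨inL e a * inR e b, by
        rw [map_mul, toTensor_inL, toTensor_inR, Algebra.TensorProduct.tmul_mul_tmul, mul_one, one_mul]⟩
  have hker : join e p q ≤ RingHom.ker (toTensor e p q).toRingHom := by
    refine sup_le (Ideal.map_le_iff_le_comap.2 fun a ha => ?_) (Ideal.map_le_iff_le_comap.2 fun a ha => ?_)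
    · show toTensor e p q (inL e a) = 0
      rw [toTensor_inL, Ideal.Quotient.eq_zero_iff_mem.2 ha, TensorProduct.zero_tmul]
    · show toTensor e p q (inR e a) = 0
      rw [toTensor_inR, Ideal.Quotient.eq_zero_iff_mem.2 ha, TensorProduct.tmul_zero]
  have hdim : ((r + 1 + (s + 1) : ℕ) : WithBot ℕ∞) ≤ ringKrullDim (MvPolynomial (Fin (N + 1)) k ⧸ join e p q) :=
    hT.symm.trans_le (ringKrullDim_le_of_surjective
      (Ideal.Quotient.lift _ (toTensor e p q).toRingHom fun a ha => hker ha)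
      (Ideal.Quotient.lift_surjective_of_surjective _ _ hsurj))
  have hne : join e p q ≠ ⊤ := fun h => by
    haveI := Ideal.Quotient.subsingleton_iff.2 h
    rw [ringKrullDim_eq_bot_of_subsingleton, le_bot_iff] at hdim
    exact WithBot.natCast_ne_bot _ hdim
  obtain ⟨h0, h1⟩ := GradedHilbLib.ringKrullDim_quotient (join_isHomogeneous e hp hq) hne
  have hH : GradedHilbLib.hilb (join e p q) ≠ 0 := fun h => by
    rw [h0 h] at hdim
    have : r + 1 + (s + 1) ≤ 0 := Nat.cast_le.1 (by simpa using hdim : ((r + 1 + (s + 1) : ℕ) : WithBot ℕ∞) ≤ ((0 : ℕ) : WithBot ℕ∞))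
    omega
  obtain ⟨P, hP, hdeg⟩ := GradedHilbLib.exists_minimalPrime_degree_eq (join_isHomogeneous e hp hq) hH
  refine ⟨P, hP.1.1, SegreLib.minimalPrime_isHomogeneous _ (join_isHomogeneous e hp hq) hP, hP.1.2,
    fun h => hH (Polynomial.degree_eq_bot.1 (by rw [← hdeg, h, Polynomial.degree_zero])), ?_⟩
  rw [Polynomial.natDegree_eq_of_degree_eq hdeg]
  rw [h1 hH] at hdim
  have : r + 1 + (s + 1) ≤ (GradedHilbLib.hilb (join e p q)).natDegree + 1 := by exact_mod_cast hdim
  omega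

/-- Intersecting with hypersurfaces drops the dimension by at most one each. -/
lemma exists_prime_contains {m : ℕ} : ∀ (l : List (MvPolynomial (Fin (m + 1)) k)),
    (∀ f ∈ l, f ∈ CohB1.polyGrading m k 1) → ∀ (P : Ideal (MvPolynomial (Fin (m + 1)) k)) [P.IsPrime],
    P.IsHomogeneous (CohB1.polyGrading m k) → GradedHilbLib.hilb P ≠ 0 →
    l.length ≤ (GradedHilbLib.hilb P).natDegree →
    ∃ Q : Ideal (MvPolynomial (Fin (m + 1)) k), Q.IsPrime ∧ Q.IsHomogeneous (CohB1.polyGrading m k) ∧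
      P ≤ Q ∧ (∀ f ∈ l, f ∈ Q) ∧ GradedHilbLib.hilb Q ≠ 0 ∧
      (GradedHilbLib.hilb P).natDegree ≤ (GradedHilbLib.hilb Q).natDegree + l.length
  | [], _, P, _, hP, h0, _ => ⟨P, inferInstance, hP, le_rfl, by simp, h0, by simp⟩
  | f :: l, hl, P, _, hP, h0, hlen => by
    obtain ⟨Q, hQ, hQh, hle, hmem, hQ0, hdeg⟩ := exists_prime_contains l
      (fun g hg => hl g (List.mem_cons_of_mem _ hg)) P hP h0 (by simp at hlen; omega)
    by_cases hfQ : f ∈ Q
    · exact ⟨Q, hQ, hQh, hle, by simp [hfQ]; exact hmem, hQ0, by simp; omega⟩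
    · have hf := hl f (List.mem_cons_self ..)
      obtain ⟨t, ht⟩ : ∃ t, (GradedHilbLib.hilb Q).natDegree = t + 1 :=
        ⟨(GradedHilbLib.hilb Q).natDegree - 1, by simp at hlen; omega⟩
      obtain ⟨R, hR, hRh, hQR, hfR, hRdeg, hR0⟩ :=
        exists_prime_section hQh hf (GradedHilbLib.piece_le_idealOfVars 1 one_pos hf) hfQ ht
      refine ⟨R, hR, hRh, hle.trans hQR, ?_, hR0, by simp; omega⟩
      simp [hfR]
      exact fun g hg => hQR (hmem g hg)

/-- The diagonal. -/
def diagMap : MvPolynomial (Fin (N + 1)) k →ₐ[k] MvPolynomial (Fin (n + 1)) k :=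
  aeval fun v => X (Sum.elim id id (e.symm v))

/-- The equations of the diagonal. -/
def diagForms : List (MvPolynomial (Fin (N + 1)) k) :=
  List.ofFn fun i => X (e (Sum.inl i)) - X (e (Sum.inr i))

lemma diagMap_inL (a : MvPolynomial (Fin (n + 1)) k) : diagMap e (inL e a) = a :=
  AlgHom.congr_fun (φ₁ := (diagMap e).comp (inL e)) (φ₂ := AlgHom.id k _)
    (MvPolynomial.algHom_ext fun i => by simp [diagMap, inL]) a

lemma diagMap_inR (a : MvPolynomial (Fin (n + 1)) k) : diagMap e (inR e a) = a :=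
  AlgHom.congr_fun (φ₁ := (diagMap e).comp (inR e)) (φ₂ := AlgHom.id k _)
    (MvPolynomial.algHom_ext fun i => by simp [diagMap, inR]) a

lemma diagMap_mem {d : ℕ} {a : MvPolynomial (Fin (N + 1)) k} (ha : a ∈ CohB1.polyGrading N k d) :
    diagMap e a ∈ CohB1.polyGrading n k d := by
  have h := ((mem_homogeneousSubmodule _ _).1 ha).rename_isHomogeneous (f := fun v => Sum.elim id id (e.symm v))
  refine (mem_homogeneousSubmodule _ _).2 ?_
  exact (show diagMap e a = _ from AlgHom.congr_fun (MvPolynomial.algHom_ext (g := rename fun v => Sum.elim id id (e.symm v)) fun v => by simp [diagMap]) a) ▸ h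

lemma ker_diagMap_le {P : Ideal (MvPolynomial (Fin (N + 1)) k)} (h : ∀ f ∈ diagForms e, f ∈ P) :
    RingHom.ker (diagMap e).toRingHom ≤ P := by
  intro a ha
  have key : Ideal.Quotient.mkₐ k P = ((Ideal.Quotient.mkₐ k P).comp (inL e)).comp (diagMap e) := by
    refine MvPolynomial.algHom_ext fun v => ?_
    obtain ⟨w, rfl⟩ := e.surjective v
    rcases w with i | i
    · simp [diagMap, inL]
    · simp only [diagMap, AlgHom.comp_apply, aeval_X, Equiv.symm_apply_apply, Sum.elim_inr, id, inL, rename_X,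
        Ideal.Quotient.mkₐ_eq_mk, Function.comp_apply]
      refine (Ideal.Quotient.eq.2 ?_)
      rw [← neg_sub]
      exact P.neg_mem (h _ (List.mem_ofFn.2 ⟨i, rfl⟩))
  have h2 := AlgHom.congr_fun key a
  rw [AlgHom.comp_apply, show diagMap e a = 0 from ha, map_zero] at h2
  exact Ideal.Quotient.eq_zero_iff_mem.1 h2

end Diag

/-- Two projective varieties of complementary dimensions meet in the expected dimension. -/
theorem exists_meet {n : ℕ} (x y : ProjectiveSpectrum (CohB1.polyGrading n k)) (h : n ≤ dPt x + dPt y) :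
    ∃ z : ProjectiveSpectrum (CohB1.polyGrading n k), x ≤ z ∧ y ≤ z ∧ dPt x + dPt y ≤ dPt z + n := by
  let e : Fin (n + 1) ⊕ Fin (n + 1) ≃ Fin (2 * n + 1 + 1) := finSumFinEquiv.trans (finCongr (by omega))
  obtain ⟨P, hP, hPh, hjP, hP0, hPdeg⟩ := exists_prime_join e (HomogeneousIdeal.isHomogeneous x.asHomogeneousIdeal)
    (HomogeneousIdeal.isHomogeneous y.asHomogeneousIdeal) rfl rfl (hilb_pt_ne_zero x) (hilb_pt_ne_zero y)
  have hlen : (diagForms (k := k) e).length = n + 1 := List.length_ofFn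
  have hP' : dPt x + dPt y + 1 ≤ (GradedHilbLib.hilb P).natDegree := hPdeg
  obtain ⟨Q, hQ, hQh, hPQ, hmem, hQ0, hQdeg⟩ := exists_prime_contains (diagForms (k := k) e) (by
    intro f hf
    obtain ⟨i, rfl⟩ := List.mem_ofFn.1 hf
    exact Submodule.sub_mem _ ((mem_homogeneousSubmodule _ _).2 (isHomogeneous_X k _))
      ((mem_homogeneousSubmodule _ _).2 (isHomogeneous_X k _))) P hPh hP0 (by omega)
  have hsurj : Function.Surjective (diagMap (k := k) e).toRingHom := fun a => ⟨inL e a, diagMap_inL e a⟩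
  have hkerQ := ker_diagMap_le e hmem
  let Q' := Q.map (diagMap (k := k) e).toRingHom
  haveI : Q'.IsPrime := Ideal.map_isPrime_of_surjective hsurj hkerQ
  have hQ'h : Q'.IsHomogeneous (CohB1.polyGrading n k) := map_isHomogeneous _ (fun _ _ => diagMap_mem e) hQh
  have hcomap : Q'.comap (diagMap (k := k) e).toRingHom = Q := by
    rw [Ideal.comap_map_of_surjective _ hsurj, ← RingHom.ker_eq_comap_bot]
    exact sup_eq_left.2 hkerQ
  let φ := (Ideal.Quotient.mk Q').comp (diagMap (k := k) e).toRingHom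
  have hφ : RingHom.ker φ = Q := by
    rw [← RingHom.comap_ker, Ideal.mk_ker]; exact hcomap
  have hdim := ringKrullDim_eq_of_ringEquiv ((Ideal.quotEquivOfEq hφ.symm).trans
    (RingHom.quotientKerEquivOfSurjective (f := φ) (Ideal.Quotient.mk_surjective.comp hsurj)))
  obtain ⟨h0, h1⟩ := GradedHilbLib.ringKrullDim_quotient hQ'h (Ideal.IsPrime.ne_top inferInstance)
  have hQd := (GradedHilbLib.ringKrullDim_quotient hQh hQ.ne_top).2 hQ0
  have hQ'0 : GradedHilbLib.hilb Q' ≠ 0 := fun hz => by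
    have h2 : (((GradedHilbLib.hilb Q).natDegree + 1 : ℕ) : WithBot ℕ∞) = ((0 : ℕ) : WithBot ℕ∞) := by
      push_cast; exact hQd.symm.trans (hdim.trans (h0 hz))
    exact Nat.succ_ne_zero _ (Nat.cast_inj.1 h2)
  have hdeq : (GradedHilbLib.hilb Q').natDegree = (GradedHilbLib.hilb Q).natDegree := by
    have h2 : (((GradedHilbLib.hilb Q).natDegree + 1 : ℕ) : WithBot ℕ∞) =
        (((GradedHilbLib.hilb Q').natDegree + 1 : ℕ) : WithBot ℕ∞) := by
      push_cast; exact hQd.symm.trans (hdim.trans (h1 hQ'0))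
    exact (Nat.succ.inj (Nat.cast_inj.1 h2)).symm
  refine ⟨mkPt Q' hQ'h hQ'0, ?_, ?_, ?_⟩
  · show x.asHomogeneousIdeal.toIdeal ≤ Q'
    intro a ha
    rw [← diagMap_inL e a]
    exact Ideal.mem_map_of_mem _ (hPQ (hjP (Ideal.mem_sup_left (Ideal.mem_map_of_mem _ ha))))
  · show y.asHomogeneousIdeal.toIdeal ≤ Q'
    intro a ha
    rw [← diagMap_inR e a]
    exact Ideal.mem_map_of_mem _ (hPQ (hjP (Ideal.mem_sup_right (Ideal.mem_map_of_mem _ ha))))
  · show _ ≤ (GradedHilbLib.hilb Q').natDegree + n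
    omega

end ProjDimLib

end
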