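import Groth.Agent.GradedHilbLib.CI
import Mathlib.Topology.Sober
import Mathlib.Topology.KrullDimension
import Mathlib.AlgebraicGeometry.ProjectiveSpectrum.Scheme

/-! # Dimension of closed subsets of projective space by Hilbert polynomials of their points -/

set_option autoImplicit false
universe u

open AlgebraicGeometry Topology TopologicalSpace Polynomial

noncomputable section

namespace ProjDimLib

section Order'

variable {A : Type*} [TopologicalSpace A] [T0Space A] [QuasiSober A] (d : A → ℕ)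

/-- A lower bound of the dimension by a function dropping by one along some specialization. -/
lemma le_dim_of_exists (h : ∀ a t, d a = t + 1 → ∃ b, a ⤳ b ∧ b ≠ a ∧ d b = t) (a : A) :
    ((d a : ℕ) : WithBot ℕ∞) ≤ topologicalKrullDim A := by
  let _ : PartialOrder A := specializationOrder A
  rw [show topologicalKrullDim A = Order.krullDim A from
    Order.krullDim_eq_of_orderIso (irreducibleSetEquivPoints (α := A))]
  have key : ∀ (t : ℕ) (x : A), d x = t → (t : ℕ∞) ≤ Order.height x := by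
    intro t
    induction t with
    | zero => intro x _; simp
    | succ t ih =>
      intro x hxt
      obtain ⟨y, hy, hne, hyt⟩ := h x t hxt
      have hlt : y < x := lt_of_le_of_ne hy hne
      exact le_trans (by push_cast; exact add_le_add (ih y hyt) le_rfl) (Order.height_add_one_le hlt)
  exact le_trans (WithBot.coe_le_coe.2 (key _ a rfl)) (Order.height_le_krullDim (α := A) a)

/-- An upper bound of the dimension by a function strictly monotone along specializations. -/
lemma dim_le_of_forall (h : ∀ a b : A, b ⤳ a → a ≠ b → d a < d b) {R : ℕ} (hR : ∀ a, d a ≤ R) :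
    topologicalKrullDim A ≤ ((R : ℕ) : WithBot ℕ∞) := by
  let _ : PartialOrder A := specializationOrder A
  rw [show topologicalKrullDim A = Order.krullDim A from
    Order.krullDim_eq_of_orderIso (irreducibleSetEquivPoints (α := A))]
  refine iSup_le fun p => ?_
  have hmono : StrictMono d := fun a b hab => h a b hab.le hab.ne
  have h1 := LTSeries.head_add_length_le_nat (p.map _ hmono)
  have h2 : (p.map _ hmono).last ≤ R := by rw [LTSeries.last_map]; exact hR _
  have h3 : p.length ≤ R := by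
    have h4 : (p.map _ hmono).length = p.length := rfl
    omega
  exact_mod_cast h3

end Order'

variable {k : Type u} [Field k] {n : ℕ}

local notation "S'" => MvPolynomial (Fin (n + 1)) k
local notation "𝒜" => CohB1.polyGrading n k
local notation "𝔪" => MvPolynomial.idealOfVars (Fin (n + 1)) k
local notation "ℙ'" => ProjectiveSpectrum (CohB1.polyGrading n k)

lemma le_idealOfVars {I : Ideal S'} (hI : I.IsHomogeneous 𝒜) (hne : I ≠ ⊤) : I ≤ 𝔪 :=
  GradedHilbLib.irrelevant_eq (k := k) (n := n) ▸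
    SMTLib.le_irrelevant_of_isHomogeneous 𝒜 GradedHilbLib.scalars hI hne

/-- A homogeneous prime has nonzero Hilbert polynomial iff it is relevant. -/
lemma hilb_ne_zero_iff {p : Ideal S'} [hp' : p.IsPrime] (hp : p.IsHomogeneous 𝒜) :
    GradedHilbLib.hilb p ≠ 0 ↔ ¬ 𝔪 ≤ p := by
  have hdim := GradedHilbLib.ringKrullDim_quotient hp hp'.ne_top
  constructor
  · intro h hmp
    have hm : p.IsMaximal := le_antisymm (le_idealOfVars hp hp'.ne_top) hmp ▸ GradedHilbLib.idealOfVars_isMaximal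
    letI := Ideal.Quotient.field p
    have h0 := hdim.2 h
    rw [ringKrullDim_eq_zero_of_field] at h0
    have h1 : ((0 : ℕ) : WithBot ℕ∞) = (((GradedHilbLib.hilb p).natDegree + 1 : ℕ) : WithBot ℕ∞) := by
      push_cast; exact h0
    exact Nat.succ_ne_zero _ (Nat.cast_inj.1 h1).symm
  · intro h h0
    have hF : Ring.KrullDimLE 0 (S' ⧸ p) := Ring.krullDimLE_iff.2 (hdim.1 h0).le
    have : p.IsMaximal := Ideal.Quotient.maximal_of_isField p (Ring.KrullDimLE.isField_of_isDomain)
    exact h (this.eq_of_le GradedHilbLib.idealOfVars_isMaximal.ne_top (le_idealOfVars hp hp'.ne_top)).ge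

lemma natDegree_hilb_mono {I J : Ideal S'} (hI : I.IsHomogeneous 𝒜) (hJ : J.IsHomogeneous 𝒜) (h : I ≤ J) :
    (GradedHilbLib.hilb J).natDegree ≤ (GradedHilbLib.hilb I).natDegree :=
  Polynomial.natDegree_le_natDegree (GradedHilbLib.degree_hilb_mono hI hJ h)

/-- A hypersurface section of a projective variety of positive dimension: a component of it. -/
lemma exists_prime_section {p : Ideal S'} [p.IsPrime] (hp : p.IsHomogeneous 𝒜) {f : S'} {d : ℕ}
    (hf : f ∈ 𝒜 d) (hfm : f ∈ 𝔪) (hfp : f ∉ p) {t : ℕ} (ht : (GradedHilbLib.hilb p).natDegree = t + 1) :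
    ∃ q : Ideal S', q.IsPrime ∧ q.IsHomogeneous 𝒜 ∧ p ≤ q ∧ f ∈ q ∧ (GradedHilbLib.hilb q).natDegree = t ∧
      GradedHilbLib.hilb q ≠ 0 := by
  have hne : p ⊔ Ideal.span {f} ≠ ⊤ := fun h =>
    GradedHilbLib.idealOfVars_isMaximal.ne_top
      (top_le_iff.1 (h ▸ sup_le (le_idealOfVars hp (Ideal.IsPrime.ne_top ‹_›))
        ((Ideal.span_singleton_le_iff_mem _).2 hfm)))
  obtain ⟨q, hq⟩ := Ideal.nonempty_minimalPrimes hne
  have : q.IsPrime := hq.1.1
  obtain ⟨h1, h2, h3⟩ := GradedHilbLib.natDegree_of_mem_minimalPrimes hp hf hfp ht hq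
  exact ⟨q, inferInstance, h1, le_sup_left.trans hq.1.2,
    hq.1.2 (Ideal.mem_sup_right (Ideal.mem_span_singleton_self f)), h2, h3⟩

/-! ## Points -/

/-- The point of a relevant homogeneous prime. -/
def mkPt (p : Ideal S') [hp' : p.IsPrime] (hp : p.IsHomogeneous 𝒜) (h : GradedHilbLib.hilb p ≠ 0) : ℙ' :=
  ⟨⟨p, hp⟩, hp', fun hle => (hilb_ne_zero_iff hp).1 h
    (GradedHilbLib.irrelevant_eq.symm.trans_le (show (HomogeneousIdeal.irrelevant 𝒜).toIdeal ≤ p from hle))⟩

@[simp] lemma mkPt_ideal (p : Ideal S') [p.IsPrime] (hp : p.IsHomogeneous 𝒜) (h : GradedHilbLib.hilb p ≠ 0) :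
    (mkPt p hp h).asHomogeneousIdeal.toIdeal = p := rfl

instance instPrime (x : ℙ') : x.asHomogeneousIdeal.toIdeal.IsPrime := x.isPrime

lemma hilb_pt_ne_zero (x : ℙ') : GradedHilbLib.hilb x.asHomogeneousIdeal.toIdeal ≠ 0 :=
  (hilb_ne_zero_iff (HomogeneousIdeal.isHomogeneous _)).2 fun h => x.not_irrelevant_le
    (show (HomogeneousIdeal.irrelevant 𝒜).toIdeal ≤ x.asHomogeneousIdeal.toIdeal from
      GradedHilbLib.irrelevant_eq.trans_le h)

/-- The dimension of the closure of a point. -/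
def dPt (x : ℙ') : ℕ := (GradedHilbLib.hilb x.asHomogeneousIdeal.toIdeal).natDegree

lemma dPt_lt {x y : ℙ'} (h : x < y) : dPt y < dPt x := by
  refine Polynomial.natDegree_lt_natDegree (hilb_pt_ne_zero y)
    (GradedHilbLib.degree_hilb_lt (HomogeneousIdeal.isHomogeneous _) (HomogeneousIdeal.isHomogeneous _) ?_
      (hilb_pt_ne_zero x))
  exact h

lemma dPt_antitone {x y : ℙ'} (h : x ≤ y) : dPt y ≤ dPt x :=
  natDegree_hilb_mono (HomogeneousIdeal.isHomogeneous _) (HomogeneousIdeal.isHomogeneous _) h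

lemma exists_succ (x : ℙ') {t : ℕ} (ht : dPt x = t + 1) : ∃ y : ℙ', x < y ∧ dPt y = t := by
  have hp : x.asHomogeneousIdeal.toIdeal.IsHomogeneous 𝒜 := HomogeneousIdeal.isHomogeneous _
  obtain ⟨i, hi⟩ : ∃ i, (MvPolynomial.X i : S') ∉ x.asHomogeneousIdeal.toIdeal := by
    by_contra! h
    exact (hilb_ne_zero_iff hp).1 (hilb_pt_ne_zero x) (Ideal.span_le.2 (by rintro _ ⟨i, rfl⟩; exact h i))
  have hX : (MvPolynomial.X i : S') ∈ 𝒜 1 :=
    (MvPolynomial.mem_homogeneousSubmodule _ _).2 (MvPolynomial.isHomogeneous_X k i)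
  obtain ⟨q, hq, hqh, hle, hfq, hdeg, hne⟩ :=
    exists_prime_section hp hX (GradedHilbLib.piece_le_idealOfVars 1 one_pos hX) hi ht
  refine ⟨mkPt q hqh hne, lt_of_le_of_ne hle fun h => hi ?_, hdeg⟩
  rw [h]; exact hfq

/-! ## Closed subsets -/

instance instQuasiSober : QuasiSober ℙ' := inferInstanceAs (QuasiSober ↥(Proj 𝒜))
instance instT0 : T0Space ℙ' := inferInstanceAs (T0Space ↥(Proj 𝒜))

lemma mem_of_le {X : Set ℙ'} (hX : IsClosed X) {x y : ℙ'} (hx : x ∈ X) (h : x ≤ y) : y ∈ X :=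
  closure_minimal (Set.singleton_subset_iff.2 hx) hX ((ProjectiveSpectrum.le_iff_mem_closure 𝒜 x y).1 h)

lemma le_of_specializes {x y : ℙ'} (h : x ⤳ y) : x ≤ y :=
  (ProjectiveSpectrum.le_iff_mem_closure 𝒜 x y).2 h.mem_closure

lemma specializes_of_le {x y : ℙ'} (h : x ≤ y) : x ⤳ y :=
  specializes_iff_mem_closure.2 ((ProjectiveSpectrum.le_iff_mem_closure 𝒜 x y).1 h)

lemma dPt_le_dim {X : Set ℙ'} (hX : IsClosed X) {x : ℙ'} (hx : x ∈ X) :
    ((dPt x : ℕ) : WithBot ℕ∞) ≤ topologicalKrullDim X := by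
  have : QuasiSober X := hX.isClosedEmbedding_subtypeVal.quasiSober
  refine le_dim_of_exists (fun a : X => dPt a.1) (fun a t ht => ?_) ⟨x, hx⟩
  obtain ⟨y, hy, hyt⟩ := exists_succ a.1 ht
  exact ⟨⟨y, mem_of_le hX a.2 hy.le⟩, (subtype_specializes_iff _ _).2 (specializes_of_le hy.le),
    fun e => hy.ne (congrArg Subtype.val e).symm, hyt⟩

lemma dim_le {X : Set ℙ'} (hX : IsClosed X) {R : ℕ} (h : ∀ x ∈ X, dPt x ≤ R) :
    topologicalKrullDim X ≤ ((R : ℕ) : WithBot ℕ∞) := by
  have : QuasiSober X := hX.isClosedEmbedding_subtypeVal.quasiSober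
  exact dim_le_of_forall (fun a : X => dPt a.1) (fun a b hab hne =>
    dPt_lt (lt_of_le_of_ne (le_of_specializes ((subtype_specializes_iff _ _).1 hab))
      fun e => hne (Subtype.ext e).symm)) fun a => h _ a.2

lemma exists_dPt_eq {X : Set ℙ'} (hX : IsClosed X) (hne : X.Nonempty) {r : ℕ}
    (hr : topologicalKrullDim X = r) : ∃ x ∈ X, dPt x = r := by
  have hle : ∀ x ∈ X, dPt x ≤ r := fun x hx => by
    have := (dPt_le_dim hX hx).trans_eq hr
    exact_mod_cast this
  by_contra! h
  rcases r with _ | r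
  · obtain ⟨x, hx⟩ := hne
    exact h x hx (Nat.le_zero.1 (hle x hx))
  · have h' := dim_le hX (R := r) fun x hx => Nat.lt_succ_iff.1 (lt_of_le_of_ne (hle x hx) (h x hx))
    rw [hr] at h'
    have : r + 1 ≤ r := by exact_mod_cast h'
    omega

lemma dim_closure (x : ℙ') : topologicalKrullDim (closure ({x} : Set ℙ')) = ((dPt x : ℕ) : WithBot ℕ∞) :=
  le_antisymm (dim_le isClosed_closure fun _ hy =>
    dPt_antitone ((ProjectiveSpectrum.le_iff_mem_closure 𝒜 _ _).2 hy))
    (dPt_le_dim isClosed_closure (subset_closure rfl))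

end ProjDimLib

end
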